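import Groth.Agent.H64.Boot4.Glue
import Groth.Agent.H64.Boot3.Descend
import Groth.Agent.S10139
import Groth.Agent.S10140
import Groth.Prelude.Def_Dual3
import Mathlib.AlgebraicGeometry.Morphisms.QuasiFinite
import Mathlib.AlgebraicGeometry.Morphisms.Separated
import Mathlib.AlgebraicGeometry.ResidueField

/-!
# The final bootstrap theorem from quasi-split étale localisation of groupoids

`QSplitHyp` is (verbatim) the statement of the milestone "étale localisation of a groupoid scheme,
quasi-finite at a point, to a quasi-split one".  Under it, the fppf quotient sheaf of a flat, locally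
finitely presented equivalence relation of schemes is an algebraic space.

The proof: slice to a locally quasi-finite equivalence relation (S10139); around every point of `U`
restrict to an affine open, localise étale to a quasi-split groupoid `(U', R', P)` (`QSplitHyp`), divide by
the finite locally free subgroupoid `P` (S10140) to get `(Ū, R̄)` with `R'` the restriction of `R̄`; since
`P` is open in `R'` the identity section of `R̄` is an open immersion, so `s̄` is étale, and `U'/R' = Ū/R̄`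
is an algebraic space which is an open subsheaf of `U/R` (H64.Boot3).
-/

set_option autoImplicit false
universe u
open CategoryTheory CategoryTheory.Limits AlgebraicGeometry

namespace Groth.Agent.H64.Boot4

open AlgSp Groth.Agent.H49.EqvSlice Groth.Agent.H53.ZMT

/-- The statement of quasi-split étale localisation of groupoid schemes. -/
def QSplitHyp : Prop :=
  ∀ (S : Scheme.{u}) (G : Grpd.GroupoidScheme S) [IsAffine G.U]
    [IsSeparated G.s] [IsSeparated G.t] [Flat G.s] [Flat G.t]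
    [LocallyOfFinitePresentation G.s] [LocallyOfFinitePresentation G.t]
    (u : ↥G.U) (_ : Dual3.QuasiFiniteAt G.s (G.e u)),
    ∃ (G' : Grpd.GroupoidScheme S) (φ : Grpd.GroupoidScheme.Hom G' G) (u' : ↥G'.U),
      IsAffine G'.U ∧ Etale φ.fU ∧ φ.fU u' = u ∧ IsIso (φ.fU.residueFieldMap u') ∧
      IsPullback φ.fR G'.j G.j
        (pullback.map G'.pU G'.pU G.pU G.pU φ.fU φ.fU (𝟙 S)
          ((Category.comp_id _).trans φ.fU_over.symm) ((Category.comp_id _).trans φ.fU_over.symm)) ∧
      ∃ (P : Scheme.{u}) (ιP : P ⟶ G'.R), IsOpenImmersion ιP ∧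
        (∃ eP : G'.U ⟶ P, eP ≫ ιP = G'.e) ∧ (∃ iP : P ⟶ P, iP ≫ ιP = ιP ≫ G'.i) ∧
        (∃ cP : pullback (ιP ≫ G'.s) (ιP ≫ G'.t) ⟶ P,
          cP ≫ ιP = pullback.map (ιP ≫ G'.s) (ιP ≫ G'.t) G'.s G'.t ιP ιP (𝟙 G'.U)
            (Category.comp_id _) (Category.comp_id _) ≫ G'.c) ∧
        IsFinite (ιP ≫ G'.s) ∧ IsFinite (ιP ≫ G'.t)

variable {S : Scheme.{u}}

/-- Local quotients of a quasi-finite flat groupoid scheme with `j` a monomorphism. -/
theorem exists_local_quotient_grpd (Q : QSplitHyp.{u}) (G : Grpd.GroupoidScheme S) [Mono G.j]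
    [IsAffine G.U] [Flat G.s] [Flat G.t] [LocallyOfFinitePresentation G.s]
    [LocallyOfFinitePresentation G.t] [LocallyQuasiFinite G.s] (u : ↥G.U) :
    ∃ (G' H : Grpd.GroupoidScheme S) (φ : Grpd.GroupoidScheme.Hom G' G)
      (ψ : Grpd.GroupoidScheme.Hom G' H) (u' : ↥G'.U),
      Etale φ.fU ∧ φ.fU u' = u ∧ IsPullback φ.fR G'.j G.j (prodMap φ) ∧
        IsPullback ψ.fR G'.j H.j (prodMap ψ) ∧ Flat ψ.fU ∧ LocallyOfFinitePresentation ψ.fU ∧
        Surjective ψ.fU ∧ Mono H.j ∧ Etale H.s := by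
  haveI : IsSeparated G.s := by rw [← j_snd (G := G)]; infer_instance
  haveI : IsSeparated G.t := by rw [← j_fst (G := G)]; infer_instance
  have hqf : Dual3.QuasiFiniteAt G.s (G.e u) :=
    (Scheme.Hom.quasiFiniteAt_iff_isOpen_singleton_asFiber).1 (G.s.quasiFiniteAt (G.e u))
  obtain ⟨G', φ, u', hAff, hEt, hu', -, hcart, P, ιP, hOpen, he, hi, hc, hfinS, hfinT⟩ :=
    Q S G u hqf
  haveI := hAff
  haveI := hEt
  haveI := hOpen
  haveI := hfinS
  haveI := hfinT
  haveI : Mono G'.j := hcart.mono_snd_of_mono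
  haveI : Etale φ.fR := fR_of φ (P := @Etale) hcart hEt
  haveI : Flat (G'.s ≫ φ.fU) := by rw [← φ.comm_s]; infer_instance
  haveI : LocallyOfFinitePresentation (G'.s ≫ φ.fU) := by rw [← φ.comm_s]; infer_instance
  haveI : Flat (G'.t ≫ φ.fU) := by rw [← φ.comm_t]; infer_instance
  haveI : LocallyOfFinitePresentation (G'.t ≫ φ.fU) := by rw [← φ.comm_t]; infer_instance
  haveI : Flat G'.s := flat_of_comp_etale G'.s φ.fU
  haveI : LocallyOfFinitePresentation G'.s := lfp_of_comp_etale G'.s φ.fU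
  haveI : Flat G'.t := flat_of_comp_etale G'.t φ.fU
  haveI : LocallyOfFinitePresentation G'.t := lfp_of_comp_etale G'.t φ.fU
  haveI : LocallyOfFiniteType (G'.j ≫ pullback.snd G'.pU G'.pU) := by
    rw [j_snd]; infer_instance
  haveI : LocallyOfFiniteType G'.j :=
    locallyOfFiniteType_of_comp G'.j (pullback.snd G'.pU G'.pU)
  obtain ⟨H, ψ, -, hquot, hfin, hfl, hlfp, hP, hcart₂⟩ :=
    Groth.Agent.S10140.result S G' P ιP he hi hc
  haveI := hfin
  haveI := hfl
  haveI := hlfp
  haveI : Surjective ψ.fU := surjective_of_isQuotient _ _ _ hquot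
  haveI : Mono H.j := mono_j_of_cover ψ hcart₂
  exact ⟨G', H, φ, ψ, u', hEt, hu', hcart, hcart₂, hfl, hlfp, inferInstance, inferInstance,
    etale_s_of_cover ψ hcart₂ ιP hP⟩

/-- Local quotients of a quasi-finite flat equivalence relation. -/
theorem exists_local_quotient (Q : QSplitHyp.{u}) {R U : Over S} (s t : R ⟶ U)
    (h : IsEqvRel s t) [Flat s.left] [LocallyOfFinitePresentation s.left]
    [LocallyQuasiFinite s.left] [Flat t.left] [LocallyOfFinitePresentation t.left] (x : U.left) :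
    ∃ (U' V RV : Over S) (g : U' ⟶ U) (π : U' ⟶ V) (sV tV : RV ⟶ V),
      x ∈ Set.range g.left ∧ Flat g.left ∧ LocallyOfFinitePresentation g.left ∧
        Flat π.left ∧ LocallyOfFinitePresentation π.left ∧ Surjective π.left ∧
        IsEqvRel sV tV ∧ Etale sV.left ∧
        ∀ (T : Over S) (a b : T ⟶ U'), (∃ r : T ⟶ R, r ≫ t = a ≫ g ∧ r ≫ s = b ≫ g) ↔
          (∃ r' : T ⟶ RV, r' ≫ tV = a ≫ π ∧ r' ≫ sV = b ≫ π) := by
  obtain ⟨W, hW, hxW, -⟩ := exists_isAffineOpen_mem_and_subset (x := x) (U := ⊤) trivial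
  let U₀ : Over S := Over.mk (W.ι ≫ U.hom)
  let g₀ : U₀ ⟶ U := Over.homMk W.ι rfl
  have h₀ : IsEqvRel (Restr.s' s t g₀) (Restr.t' s t g₀) := Restr.isEqvRel s t g₀ h
  let G : Grpd.GroupoidScheme S := grpdOfEqv (Restr.s' s t g₀) (Restr.t' s t g₀) h₀
  haveI : Mono G.j := mono_j_grpdOfEqv h₀
  haveI : IsAffine G.U := hW
  haveI : Flat G.s := restr_s'_of s t g₀ (P := @Flat) (inferInstanceAs (Flat W.ι)) ‹_›
  haveI : LocallyOfFinitePresentation G.s :=
    restr_s'_of s t g₀ (P := @LocallyOfFinitePresentation)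
      (inferInstanceAs (LocallyOfFinitePresentation W.ι)) ‹_›
  haveI : LocallyQuasiFinite G.s :=
    restr_s'_of s t g₀ (P := @LocallyQuasiFinite) (inferInstanceAs (LocallyQuasiFinite W.ι)) ‹_›
  haveI : Flat G.t := restr_t'_of s t g₀ (P := @Flat) (inferInstanceAs (Flat W.ι)) ‹_›
  haveI : LocallyOfFinitePresentation G.t :=
    restr_t'_of s t g₀ (P := @LocallyOfFinitePresentation)
      (inferInstanceAs (LocallyOfFinitePresentation W.ι)) ‹_›
  let u : ↥G.U := (⟨x, hxW⟩ : W)
  obtain ⟨G', H, φ, ψ, u', hEt, hu', hcart, hcart₂, hfl, hlfp, hsurj, hmono, hEtH⟩ :=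
    exists_local_quotient_grpd Q G u
  haveI := hEt
  have hgw : (φ.fU ≫ W.ι) ≫ U.hom = G'.pU := by
    rw [Category.assoc]; exact φ.fU_over
  let g : UO G' ⟶ U := Over.homMk (φ.fU ≫ W.ι) hgw
  have hg : ∀ {T : Over S} (a : T ⟶ UO G'), a ≫ g = (a ≫ (fUO φ : UO G' ⟶ U₀)) ≫ g₀ := by
    intro T a
    ext1
    exact (Category.assoc _ _ _).symm
  refine ⟨UO G', UO H, RO H, g, fUO ψ, sO H, tO H, ?_, ?_, ?_, hfl, hlfp, hsurj,
    isEqvRel_of_mono_j H, hEtH, ?_⟩
  · refine ⟨u', ?_⟩
    change (φ.fU ≫ W.ι) u' = x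
    rw [Scheme.Hom.comp_apply, hu']
    rfl
  · have h1 : Flat φ.fU := inferInstance
    have h2 : Flat W.ι := inferInstance
    exact MorphismProperty.comp_mem (W := @Flat) _ _ h1 h2
  · have h1 : LocallyOfFinitePresentation φ.fU := inferInstance
    have h2 : LocallyOfFinitePresentation W.ι := inferInstance
    exact MorphismProperty.comp_mem (W := @LocallyOfFinitePresentation) _ _ h1 h2
  · intro T a b
    rw [hg a, hg b]
    refine (restr_rel_iff s t g₀ T _ _).symm.trans ?_
    refine Iff.trans ?_ (rel_iff_of_cart ψ hcart₂ T a b)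
    exact (rel_iff_of_cart φ hcart T a b).symm

/-- **The final bootstrap theorem for equivalence relations of schemes**, conditional on quasi-split
étale localisation of groupoid schemes. -/
theorem isAlgSpace_quot_of_qsplit (Q : QSplitHyp.{u}) (S : Scheme.{u}) {R U : Over S}
    (s t : R ⟶ U) (h : AlgSp.IsEqvRel s t) [Flat s.left] [LocallyOfFinitePresentation s.left]
    [Flat t.left] [LocallyOfFinitePresentation t.left] :
    AlgSp.IsAlgSpace (QuotSh.quot Scheme.fppfPrecoverage s t) := by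
  obtain ⟨R', U', s', t', g, r, ψ, hE, -, -, hfl, hfp, hqf, hfl', hfp', -, -, hiso⟩ :=
    Groth.Agent.S10139.result S s t h
  haveI := hfl
  haveI := hfp
  haveI := hqf
  haveI := hfl'
  haveI := hfp'
  haveI := hiso
  have hA : IsAlgSpace (QuotSh.quot Scheme.fppfPrecoverage s' t') :=
    Groth.Agent.H64.Boot3.isAlgSpace_quot_of_local_quotients s' t' hE hfl hfp inferInstance
      (fun x => exists_local_quotient Q s' t' hE x)
  exact hA.of_iso (asIso ψ)

end Groth.Agent.H64.Boot4
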