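import Groth.Agent.H64.Boot4.GrpdDescend
import Groth.Agent.H49.EqvSliceC
import Groth.Agent.H49.AlgSpCoprod
import Groth.Agent.H50.Quot
import Groth.Prelude.Def_AlgSp
import Groth.Prelude.Def_QuotSh

/-!
# Glue between groupoid schemes and equivalence relations in `Over S`
-/

set_option autoImplicit false
universe u
open CategoryTheory CategoryTheory.Limits AlgebraicGeometry

namespace Groth.Agent.H64.Boot4

open AlgSp Groth.Agent.H49.SubGrpd Groth.Agent.H90

variable {S : Scheme.{u}}

/-- objects of a groupoid scheme, over `S`. -/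
abbrev UO (G : Grpd.GroupoidScheme S) : Over S := Over.mk G.pU

/-- arrows of a groupoid scheme, over `S`. -/
abbrev RO (G : Grpd.GroupoidScheme S) : Over S := Over.mk G.pR

/-- source over `S`. -/
abbrev sO (G : Grpd.GroupoidScheme S) : RO G ⟶ UO G := Over.homMk G.s G.s_over

/-- target over `S`. -/
abbrev tO (G : Grpd.GroupoidScheme S) : RO G ⟶ UO G := Over.homMk G.t G.t_over

/-- the map on objects over `S`. -/
abbrev fUO {G' G : Grpd.GroupoidScheme S} (φ : Grpd.GroupoidScheme.Hom G' G) : UO G' ⟶ UO G :=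
  Over.homMk φ.fU φ.fU_over

theorem fR_over {G' G : Grpd.GroupoidScheme S} (φ : Grpd.GroupoidScheme.Hom G' G) :
    φ.fR ≫ G.pR = G'.pR := by
  rw [← G.s_over, ← Category.assoc, φ.comm_s, Category.assoc, φ.fU_over, G'.s_over]

/-- Lifting an arrow along a cartesian morphism of groupoid schemes. -/
theorem exists_lift_of_cart {G' G : Grpd.GroupoidScheme S} (φ : Grpd.GroupoidScheme.Hom G' G)
    (hcart : IsPullback φ.fR G'.j G.j (prodMap φ)) {T : Scheme.{u}} (ρ : T ⟶ G.R)
    (a b : T ⟶ G'.U) (ht : ρ ≫ G.t = a ≫ φ.fU) (hs : ρ ≫ G.s = b ≫ φ.fU) :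
    ∃ r : T ⟶ G'.R, r ≫ G'.t = a ∧ r ≫ G'.s = b ∧ r ≫ φ.fR = ρ := by
  have hab : a ≫ G'.pU = b ≫ G'.pU := by
    rw [← φ.fU_over, ← Category.assoc, ← ht, ← Category.assoc, ← hs, Category.assoc, Category.assoc,
      G.t_over, G.s_over]
  have hc : ρ ≫ G.j = pullback.lift a b hab ≫ prodMap φ := by
    apply pullback.hom_ext
    · rw [Category.assoc, j_fst, Category.assoc, pullback.lift_fst, pullback.lift_fst_assoc, ht]
    · rw [Category.assoc, j_snd, Category.assoc, pullback.lift_snd, pullback.lift_snd_assoc, hs]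
  refine ⟨hcart.lift ρ (pullback.lift a b hab) hc, ?_, ?_, hcart.lift_fst _ _ _⟩
  · rw [← j_fst (G := G'), ← Category.assoc, hcart.lift_snd, pullback.lift_fst]
  · rw [← j_snd (G := G'), ← Category.assoc, hcart.lift_snd, pullback.lift_snd]

/-- Along a cartesian morphism of groupoid schemes, two points of `U'` are related iff their images
are. -/
theorem rel_iff_of_cart {G' G : Grpd.GroupoidScheme S} (φ : Grpd.GroupoidScheme.Hom G' G)
    (hcart : IsPullback φ.fR G'.j G.j (prodMap φ)) (T : Over S) (a b : T ⟶ UO G') :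
    (∃ r : T ⟶ RO G', r ≫ tO G' = a ∧ r ≫ sO G' = b) ↔
      (∃ ρ : T ⟶ RO G, ρ ≫ tO G = a ≫ fUO φ ∧ ρ ≫ sO G = b ≫ fUO φ) := by
  constructor
  · rintro ⟨r, rfl, rfl⟩
    refine ⟨r ≫ (Over.homMk φ.fR (fR_over φ) : RO G' ⟶ RO G), ?_, ?_⟩
    · ext1
      change (r.left ≫ φ.fR) ≫ G.t = (r.left ≫ G'.t) ≫ φ.fU
      rw [Category.assoc, φ.comm_t, Category.assoc]
    · ext1
      change (r.left ≫ φ.fR) ≫ G.s = (r.left ≫ G'.s) ≫ φ.fU
      rw [Category.assoc, φ.comm_s, Category.assoc]
  · rintro ⟨ρ, h1, h2⟩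
    have h1' : ρ.left ≫ G.t = a.left ≫ φ.fU := congrArg CommaMorphism.left h1
    have h2' : ρ.left ≫ G.s = b.left ≫ φ.fU := congrArg CommaMorphism.left h2
    obtain ⟨r, hr1, hr2, -⟩ := exists_lift_of_cart φ hcart ρ.left a.left b.left h1' h2'
    have hw : r ≫ G'.pR = T.hom := by
      rw [← G'.t_over, ← Category.assoc, hr1]
      exact Over.w a
    refine ⟨(Over.homMk r hw : T ⟶ RO G'), ?_, ?_⟩
    · ext1; exact hr1
    · ext1; exact hr2

/-- A groupoid scheme whose `j` is a monomorphism gives an equivalence relation over `S`. -/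
theorem isEqvRel_of_mono_j (H : Grpd.GroupoidScheme S) [Mono H.j] : IsEqvRel (sO H) (tO H) := by
  refine ⟨fun T r r' h1 h2 => ?_, fun T => ⟨fun a => ?_, fun {a b} hab => ?_,
    fun {a b c} hab hbc => ?_⟩⟩
  · ext1
    exact hom_ext_of_mono_j (G := H) r.left r'.left (congrArg CommaMorphism.left h1)
      (congrArg CommaMorphism.left h2)
  · have hw : (a.left ≫ H.e) ≫ H.pR = T.hom := by
      rw [← H.t_over, Category.assoc, ← Category.assoc H.e, H.e_t, Category.id_comp]
      exact Over.w a
    refine ⟨(Over.homMk (a.left ≫ H.e) hw : T ⟶ RO H), ?_, ?_⟩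
    · ext1
      change (a.left ≫ H.e) ≫ H.t = a.left
      rw [Category.assoc, H.e_t]
      exact Category.comp_id _
    · ext1
      change (a.left ≫ H.e) ≫ H.s = a.left
      rw [Category.assoc, H.e_s]
      exact Category.comp_id _
  · obtain ⟨r, rfl, rfl⟩ := hab
    have hw : (r.left ≫ H.i) ≫ H.pR = T.hom := by
      rw [← H.t_over, Category.assoc, ← Category.assoc H.i, H.i_t, H.s_over]
      exact Over.w r
    refine ⟨(Over.homMk (r.left ≫ H.i) hw : T ⟶ RO H), ?_, ?_⟩
    · ext1
      change (r.left ≫ H.i) ≫ H.t = r.left ≫ H.s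
      rw [Category.assoc, H.i_t]
    · ext1
      change (r.left ≫ H.i) ≫ H.s = r.left ≫ H.t
      rw [Category.assoc, H.i_s]
  · obtain ⟨r₁, rfl, hr₁⟩ := hab
    obtain ⟨r₂, hr₂, rfl⟩ := hbc
    have hcomp : r₁.left ≫ H.s = r₂.left ≫ H.t := by
      have := hr₁.trans hr₂.symm
      exact congrArg CommaMorphism.left this
    have hw : gc H r₁.left r₂.left ≫ H.pR = T.hom := by
      rw [← H.t_over, ← Category.assoc, gc_t hcomp, Category.assoc, H.t_over]
      exact Over.w r₁
    refine ⟨(Over.homMk (gc H r₁.left r₂.left) hw : T ⟶ RO H), ?_, ?_⟩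
    · ext1
      exact gc_t hcomp
    · ext1
      exact gc_s hcomp

/-- An epimorphism between representable sheaves comes from a surjective morphism. -/
theorem surjective_of_epi_yon_map {V M : Over S} (q : V ⟶ M) [Epi ((yon S).map q)] :
    Surjective q.left := by
  refine ⟨fun y => ?_⟩
  obtain ⟨W, hW, hlift⟩ := Groth.Agent.H50.exists_local_lift_of_epi ((yon S).map q) (𝟙 _)
  obtain ⟨R', hR', hle⟩ := Groth.Agent.H49.exists_fppf_cover_of_mem W hW
  obtain ⟨U', g, hg, u', hu'⟩ :=
    (Presieve.mem_comap_jointlySurjectivePrecoverage_iff Scheme.forget).1 hR'.1 y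
  obtain ⟨z, hz⟩ := hlift _ (hle g hg)
  obtain ⟨z₀, rfl⟩ := (yon S).map_surjective z
  rw [Category.comp_id, ← Functor.map_comp] at hz
  have hz' := (yon S).map_injective hz
  have hz'' : z₀.left ≫ q.left = g := congrArg CommaMorphism.left hz'
  refine ⟨z₀.left u', ?_⟩
  rw [← Scheme.Hom.comp_apply, hz'']
  exact hu'

/-- If `q` exhibits `M` as an fppf quotient, `q` is surjective. -/
theorem surjective_of_isQuotient {R V M : Over S} (s t : R ⟶ V) (q : V ⟶ M)
    (h : QuotSh.IsQuotient Scheme.fppfPrecoverage s t q) : Surjective q.left := by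
  obtain ⟨w, hiso⟩ := h
  have h1 : QuotSh.quotπ Scheme.fppfPrecoverage s t ≫ QuotSh.quotDesc Scheme.fppfPrecoverage q w =
      QuotSh.repMap Scheme.fppfPrecoverage q := coequalizer.π_desc _ _
  haveI : Epi (QuotSh.quotπ Scheme.fppfPrecoverage s t) :=
    coequalizer.π_epi (f := QuotSh.repMap Scheme.fppfPrecoverage s)
      (g := QuotSh.repMap Scheme.fppfPrecoverage t)
  haveI : Epi (QuotSh.repMap Scheme.fppfPrecoverage q) := by
    rw [← h1]; infer_instance
  have h2 : (yon S).map q = (QuotSh.repIsoUliftYoneda Scheme.fppfPrecoverage V).inv ≫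
      QuotSh.repMap Scheme.fppfPrecoverage q ≫
        (QuotSh.repIsoUliftYoneda Scheme.fppfPrecoverage M).hom := by
    rw [Groth.Agent.H49.repMap_comp_repIso_hom, Iso.inv_hom_id_assoc]
  haveI : Epi ((yon S).map q) := by
    rw [h2]; infer_instance
  exact surjective_of_epi_yon_map q

/-- Flatness cancels on the right against étale morphisms. -/
theorem flat_of_comp_etale {A B C : Scheme.{u}} (f : A ⟶ B) (g : B ⟶ C) [Etale g]
    [Flat (f ≫ g)] : Flat f := by
  have : MorphismProperty.HasOfPostcompProperty @Flat @Etale := by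
    rw [MorphismProperty.hasOfPostcompProperty_iff_le_diagonal]
    intro X Y f hf
    haveI : Etale f := hf
    exact inferInstanceAs <| Flat (pullback.diagonal f)
  exact MorphismProperty.of_postcomp (W := @Flat) (W' := @Etale) f g ‹_› ‹_›

/-- Local finite presentation cancels on the right against étale morphisms. -/
theorem lfp_of_comp_etale {A B C : Scheme.{u}} (f : A ⟶ B) (g : B ⟶ C) [Etale g]
    [LocallyOfFinitePresentation (f ≫ g)] : LocallyOfFinitePresentation f := by
  haveI : MorphismProperty.IsMultiplicative @LocallyOfFinitePresentation.{u} :=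
    { id_mem := fun _ => inferInstance
      comp_mem := fun f g hf hg => by
        haveI : LocallyOfFinitePresentation f := hf
        haveI : LocallyOfFinitePresentation g := hg
        exact (inferInstance : LocallyOfFinitePresentation (f ≫ g)) }
  have : MorphismProperty.HasOfPostcompProperty @LocallyOfFinitePresentation @Etale := by
    rw [MorphismProperty.hasOfPostcompProperty_iff_le_diagonal]
    intro X Y f hf
    haveI : Etale f := hf
    exact inferInstanceAs <| LocallyOfFinitePresentation (pullback.diagonal f)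
  exact MorphismProperty.of_postcomp (W := @LocallyOfFinitePresentation) (W' := @Etale) f g ‹_› ‹_›

section Restr

open Groth.Agent.H49.EqvSlice

variable {R U U' : Over S} (s t : R ⟶ U) (g : U' ⟶ U)

theorem restr_s'_of {P : MorphismProperty Scheme.{u}} [P.IsStableUnderBaseChange]
    [P.IsStableUnderComposition] (hg : P g.left) (hs : P s.left) : P (Restr.s' s t g).left := by
  change P (pullback.snd (Restr.Hs s t g) g.left)
  refine MorphismProperty.pullback_snd _ _ ?_
  exact P.comp_mem _ _ (MorphismProperty.pullback_snd _ _ hg) hs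

theorem restr_t'_of {P : MorphismProperty Scheme.{u}} [P.IsStableUnderBaseChange]
    [P.IsStableUnderComposition] (hg : P g.left) (ht : P t.left) : P (Restr.t' s t g).left := by
  change P (pullback.fst (Restr.Hs s t g) g.left ≫ pullback.fst g.left t.left)
  exact P.comp_mem _ _ (MorphismProperty.pullback_fst _ _ hg) (MorphismProperty.pullback_fst _ _ ht)

/-- Points of `U'` are related for the restricted relation iff their images are related. -/
theorem restr_rel_iff (T : Over S) (a b : T ⟶ U') :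
    (∃ ρ' : T ⟶ Restr.R' s t g, ρ' ≫ Restr.t' s t g = a ∧ ρ' ≫ Restr.s' s t g = b) ↔
      ∃ ρ : T ⟶ R, ρ ≫ t = a ≫ g ∧ ρ ≫ s = b ≫ g := by
  constructor
  · rintro ⟨ρ', rfl, rfl⟩
    exact ⟨ρ' ≫ Restr.r s t g, by rw [Category.assoc, Restr.r_t, Category.assoc],
      by rw [Category.assoc, Restr.r_s, Category.assoc]⟩
  · rintro ⟨ρ, h1, h2⟩
    exact ⟨Restr.lift a b ρ h1 h2, Restr.lift_t' a b ρ h1 h2, Restr.lift_s' a b ρ h1 h2⟩

end Restr

end Groth.Agent.H64.Boot4
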