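import Groth.Agent.H64.Boot4.GrpdUnram
import Groth.Agent.H49.CMMor
import Groth.Agent.S0114
import Mathlib.AlgebraicGeometry.Morphisms.FlatDescent
import Mathlib.AlgebraicGeometry.Sites.Fpqc

/-!
# Descending properties of a groupoid scheme along a cartesian morphism of groupoids

`φ : G ⟶ H` is a morphism of groupoid schemes over `S` with `G` the restriction of `H` along
`π = φ.fU : G.U ⟶ H.U` (the square `R_G ⟶ U_G × U_G`, `R_H ⟶ U_H × U_H` is cartesian) and `π` is an
fpqc covering.  Then `j_H` is a monomorphism if `j_G` is, `s_H` is flat and locally of finite presentation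
if `s_G` is (and `π` is), and if moreover the kernel pair `P = U_G ×_{U_H} U_G` of `π` is an open
subscheme of `R_G`, the identity section of `H` is an open immersion, so that `s_H` is étale.
-/

set_option autoImplicit false
universe u
open CategoryTheory CategoryTheory.Limits AlgebraicGeometry

namespace Groth.Agent.H64.Boot4

variable {S : Scheme.{u}} {G H : Grpd.GroupoidScheme S} (φ : Grpd.GroupoidScheme.Hom G H)

/-- The product map `U_G ×_S U_G ⟶ U_H ×_S U_H`. -/
noncomputable abbrev prodMap : pullback G.pU G.pU ⟶ pullback H.pU H.pU :=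
  pullback.map G.pU G.pU H.pU H.pU φ.fU φ.fU (𝟙 S)
    ((Category.comp_id _).trans φ.fU_over.symm) ((Category.comp_id _).trans φ.fU_over.symm)

theorem prodMap_of {P : MorphismProperty Scheme.{u}} [P.IsStableUnderBaseChange]
    [P.IsStableUnderComposition] (h : P φ.fU) : P (prodMap φ) :=
  MorphismProperty.pullbackMap (P := P) h h φ.fU_over.symm φ.fU_over.symm

theorem fR_of {P : MorphismProperty Scheme.{u}} [P.IsStableUnderBaseChange]
    [P.IsStableUnderComposition] (hcart : IsPullback φ.fR G.j H.j (prodMap φ)) (h : P φ.fU) :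
    P φ.fR :=
  MorphismProperty.of_isPullback (P := P) hcart.flip (prodMap_of φ h)

theorem j_fst : G.j ≫ pullback.fst G.pU G.pU = G.t := pullback.lift_fst _ _ _

theorem j_snd : G.j ≫ pullback.snd G.pU G.pU = G.s := pullback.lift_snd _ _ _

theorem mono_j_of_cart (hcart : IsPullback φ.fR G.j H.j (prodMap φ)) [Mono H.j] : Mono G.j :=
  hcart.mono_snd_of_mono

/-- Two points of `R_G` with the same source and target are equal when `j_G` is a monomorphism. -/
theorem hom_ext_of_mono_j [Mono G.j] {T : Scheme.{u}} (a b : T ⟶ G.R) (ht : a ≫ G.t = b ≫ G.t)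
    (hs : a ≫ G.s = b ≫ G.s) : a = b := by
  rw [← cancel_mono G.j]
  apply pullback.hom_ext
  · rw [Category.assoc, Category.assoc, j_fst, ht]
  · rw [Category.assoc, Category.assoc, j_snd, hs]

section Descent

variable (hcart : IsPullback φ.fR G.j H.j (prodMap φ)) [Flat φ.fU] [Surjective φ.fU]
  [QuasiCompact φ.fU]

include hcart

/-- `j_H` is a monomorphism if `j_G` is. -/
theorem mono_j_of_cover [Mono G.j] : Mono H.j := by
  constructor
  intro T a b hab
  have hππ : (@Surjective ⊓ @Flat ⊓ @QuasiCompact : MorphismProperty Scheme.{u}) (prodMap φ) :=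
    prodMap_of φ (P := @Surjective ⊓ @Flat ⊓ @QuasiCompact) ⟨⟨‹_›, ‹_›⟩, ‹_›⟩
  let w : T ⟶ pullback H.pU H.pU := a ≫ H.j
  have hp1 : (@Surjective ⊓ @Flat ⊓ @QuasiCompact : MorphismProperty Scheme.{u})
      (pullback.fst w (prodMap φ)) :=
    MorphismProperty.pullback_fst _ _ hππ
  haveI : Surjective (pullback.fst w (prodMap φ)) := hp1.1.1
  haveI : Flat (pullback.fst w (prodMap φ)) := hp1.1.2
  haveI : QuasiCompact (pullback.fst w (prodMap φ)) := hp1.2
  haveI : Epi (pullback.fst w (prodMap φ)) := inferInstance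
  let a' : pullback w (prodMap φ) ⟶ G.R :=
    hcart.lift (pullback.fst w (prodMap φ) ≫ a) (pullback.snd w (prodMap φ)) (by
      rw [Category.assoc]; exact pullback.condition)
  let b' : pullback w (prodMap φ) ⟶ G.R :=
    hcart.lift (pullback.fst w (prodMap φ) ≫ b) (pullback.snd w (prodMap φ)) (by
      rw [Category.assoc, ← hab]; exact pullback.condition)
  have hab' : a' = b' := by
    rw [← cancel_mono G.j]
    exact (hcart.lift_snd _ _ _).trans (hcart.lift_snd _ _ _).symm
  rw [← cancel_epi (pullback.fst w (prodMap φ))]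
  have h1 : a' ≫ φ.fR = pullback.fst w (prodMap φ) ≫ a := hcart.lift_fst _ _ _
  have h2 : b' ≫ φ.fR = pullback.fst w (prodMap φ) ≫ b := hcart.lift_fst _ _ _
  rw [← h1, ← h2, hab']

/-- `s_H` is flat if `s_G` is. -/
theorem flat_s_of_cover [Flat G.s] : Flat H.s := by
  haveI : Flat φ.fR := fR_of φ (P := @Flat) hcart ‹_›
  haveI : Surjective φ.fR := fR_of φ (P := @Surjective) hcart ‹_›
  have hc : Flat (φ.fR ≫ H.s) := by rw [φ.comm_s]; infer_instance
  rw [Flat.iff_flat_stalkMap]
  intro y
  obtain ⟨x, rfl⟩ := φ.fR.surjective y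
  exact Groth.Agent.H49.CMMor.flat_stalkMap_of_comp φ.fR H.s x (Flat.stalkMap φ.fR x)
    (Flat.stalkMap (φ.fR ≫ H.s) x)

/-- `s_H` is locally of finite presentation if `s_G` and `π` are. -/
theorem lfp_s_of_cover [LocallyOfFinitePresentation φ.fU] [LocallyOfFinitePresentation G.s] :
    LocallyOfFinitePresentation H.s := by
  haveI : Flat φ.fR := fR_of φ (P := @Flat) hcart ‹_›
  haveI : Surjective φ.fR := fR_of φ (P := @Surjective) hcart ‹_›
  haveI : LocallyOfFinitePresentation φ.fR :=
    fR_of φ (P := @LocallyOfFinitePresentation) hcart ‹_›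
  haveI : LocallyOfFinitePresentation (φ.fR ≫ H.s) := by rw [φ.comm_s]; infer_instance
  exact Groth.Agent.S0114.result φ.fR H.s

variable {P : Scheme.{u}} (ιP : P ⟶ G.R) (hP : IsPullback (ιP ≫ G.t) (ιP ≫ G.s) φ.fU φ.fU)

include hP

/-- The identity section of `H` pulls back to `P ⟶ R_G`. -/
theorem isPullback_e [Mono G.j] [Mono ιP] :
    IsPullback ιP (ιP ≫ G.t ≫ φ.fU) φ.fR H.e := by
  haveI : Mono H.j := mono_j_of_cover φ hcart
  have hw' : (ιP ≫ G.t) ≫ φ.fU = (ιP ≫ G.s) ≫ φ.fU := hP.w
  have hw : ιP ≫ φ.fR = (ιP ≫ G.t ≫ φ.fU) ≫ H.e := by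
    apply hom_ext_of_mono_j
    · rw [Category.assoc, φ.comm_t, Category.assoc, Category.assoc, Category.assoc, H.e_t,
        Category.comp_id]
    · rw [Category.assoc, φ.comm_s, Category.assoc, Category.assoc, Category.assoc, H.e_s,
        Category.comp_id]
      simpa only [Category.assoc] using hw'.symm
  refine ⟨⟨hw⟩, ⟨PullbackCone.IsLimit.mk _
    (fun c => hP.lift (c.fst ≫ G.t) (c.fst ≫ G.s) ?_) ?_ ?_ ?_⟩⟩
  · have h1 := congrArg (· ≫ H.t) c.condition
    have h2 := congrArg (· ≫ H.s) c.condition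
    simp only [Category.assoc, φ.comm_t, φ.comm_s, H.e_t, H.e_s, Category.comp_id] at h1 h2
    rw [Category.assoc, Category.assoc, h1, h2]
  · intro c
    apply hom_ext_of_mono_j
    · rw [Category.assoc]; exact hP.lift_fst _ _ _
    · rw [Category.assoc]; exact hP.lift_snd _ _ _
  · intro c
    have h1 := congrArg (· ≫ H.t) c.condition
    simp only [Category.assoc, φ.comm_t, H.e_t, Category.comp_id] at h1
    have h3 : hP.lift (c.fst ≫ G.t) (c.fst ≫ G.s) (by
        have h2 := congrArg (· ≫ H.s) c.condition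
        simp only [Category.assoc, φ.comm_s, H.e_s, Category.comp_id] at h2
        rw [Category.assoc, Category.assoc, h1, h2]) ≫ ιP ≫ G.t = c.fst ≫ G.t := hP.lift_fst _ _ _
    change hP.lift (c.fst ≫ G.t) (c.fst ≫ G.s) _ ≫ ιP ≫ G.t ≫ φ.fU = c.snd
    rw [← Category.assoc ιP, ← Category.assoc, h3, Category.assoc, h1]
  · intro c m hm1 _
    rw [← cancel_mono ιP]
    apply hom_ext_of_mono_j
    · rw [hm1, Category.assoc]; exact (hP.lift_fst _ _ _).symm
    · rw [hm1, Category.assoc]; exact (hP.lift_snd _ _ _).symm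

/-- If the kernel pair of `π` is open in `R_G`, the identity section of `H` is an open immersion. -/
theorem isOpenImmersion_e [Mono G.j] [IsOpenImmersion ιP] : IsOpenImmersion H.e := by
  have hfR : (@Surjective ⊓ @Flat ⊓ @QuasiCompact : MorphismProperty Scheme.{u}) φ.fR :=
    fR_of φ (P := @Surjective ⊓ @Flat ⊓ @QuasiCompact) hcart ⟨⟨‹_›, ‹_›⟩, ‹_›⟩
  exact MorphismProperty.of_isPullback_of_descendsAlong (P := @IsOpenImmersion)
    (Q := @Surjective ⊓ @Flat ⊓ @QuasiCompact) (isPullback_e φ hcart ιP hP) hfR ‹_›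

/-- If the kernel pair of `π` is open in `R_G` and `s_G`, `π` are flat and locally of finite
presentation, then `s_H` is étale. -/
theorem etale_s_of_cover [Mono G.j] [IsOpenImmersion ιP] [Flat G.s]
    [LocallyOfFinitePresentation φ.fU] [LocallyOfFinitePresentation G.s] : Etale H.s := by
  haveI := isOpenImmersion_e φ hcart ιP hP
  haveI := flat_s_of_cover φ hcart
  haveI := lfp_s_of_cover φ hcart
  exact etale_s H

end Descent

end Groth.Agent.H64.Boot4
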