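import Groth.Agent.H49.SubGrpdCalc
import Mathlib.AlgebraicGeometry.Morphisms.Etale
import Mathlib.AlgebraicGeometry.Morphisms.FormallyUnramified

/-!
# A groupoid scheme whose identity section is an open immersion has unramified source map

For a groupoid scheme `(U, R, s, t, c, e, i)` the diagonal of `s` is the base change of the identity
section `e : U ⟶ R` along the "difference" map `R ×_{s,U,s} R ⟶ R`, `(α, β) ↦ α ∘ β⁻¹`.  Hence if `e` is
an open immersion, `s` is formally unramified, and étale as soon as it is flat and locally of finite
presentation.
-/

set_option autoImplicit false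
universe u
open CategoryTheory CategoryTheory.Limits AlgebraicGeometry

namespace Groth.Agent.H64.Boot4

open Groth.Agent.H49.SubGrpd Groth.Agent.H90

variable {S : Scheme.{u}} (G : Grpd.GroupoidScheme S)

/-- The difference map `(α, β) ↦ α ∘ β⁻¹` on pairs of arrows with the same source. -/
noncomputable def diffMap : pullback G.s G.s ⟶ G.R :=
  gc G (pullback.fst G.s G.s) (pullback.snd G.s G.s ≫ G.i)

theorem diffMap_comp {T : Scheme.{u}} (x : T ⟶ pullback G.s G.s) :
    x ≫ diffMap G = gc G (x ≫ pullback.fst G.s G.s) ((x ≫ pullback.snd G.s G.s) ≫ G.i) := by
  unfold diffMap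
  rw [comp_gc x (by rw [i_t']; exact pullback.condition), Category.assoc]

/-- The diagonal of `s` is the base change of the identity section along the difference map. -/
theorem isPullback_diagonal_e :
    IsPullback (pullback.diagonal G.s) G.t (diffMap G) G.e := by
  have hw : pullback.diagonal G.s ≫ diffMap G = G.t ≫ G.e := by
    rw [diffMap_comp, pullback.diagonal_fst, pullback.diagonal_snd]
    have := gc_i (G := G) (𝟙 G.R)
    rwa [Category.id_comp, Category.id_comp] at this
  refine ⟨⟨hw⟩, ⟨PullbackCone.IsLimit.mk _ (fun c => c.fst ≫ pullback.fst G.s G.s) ?_ ?_ ?_⟩⟩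
  · intro c
    have hc := c.condition
    rw [diffMap_comp] at hc
    set a := c.fst ≫ pullback.fst G.s G.s with ha
    set b := c.fst ≫ pullback.snd G.s G.s with hb
    have hab : a ≫ G.s = b ≫ G.s := by
      rw [ha, hb, Category.assoc, Category.assoc, pullback.condition]
    have h1 : a ≫ G.s = (b ≫ G.i) ≫ G.t := by rw [i_t']; exact hab
    have hbt : b ≫ G.t = c.snd := by
      have := congrArg (· ≫ G.s) hc
      simp only [Category.assoc, G.e_s, Category.comp_id] at this
      rw [← this]
      have h2 := gc_s h1
      rw [i_s'] at h2
      simpa only [Category.assoc] using h2.symm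
    have key : a = b := by
      have e1 : gc G (gc G a (b ≫ G.i)) b = a := by
        rw [gc_assoc h1 (i_s' b), i_gc]
        exact gc_e' a _ hab
      have e2 : gc G (gc G a (b ≫ G.i)) b = b := by
        rw [hc]
        exact e_gc' b _ hbt
      rw [← e1, e2]
    apply pullback.hom_ext
    · rw [Category.assoc, pullback.diagonal_fst, Category.comp_id]
    · rw [Category.assoc, pullback.diagonal_snd, Category.comp_id]
      exact key
  · intro c
    have hc := c.condition
    rw [diffMap_comp] at hc
    set a := c.fst ≫ pullback.fst G.s G.s with ha
    set b := c.fst ≫ pullback.snd G.s G.s with hb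
    have hab : a ≫ G.s = b ≫ G.s := by
      rw [ha, hb, Category.assoc, Category.assoc, pullback.condition]
    have h1 : a ≫ G.s = (b ≫ G.i) ≫ G.t := by rw [i_t']; exact hab
    have := congrArg (· ≫ G.t) hc
    simp only [Category.assoc, G.e_t, Category.comp_id] at this
    rw [← this]
    have h2 := gc_t h1
    simpa only [Category.assoc] using h2.symm
  · intro c m hm1 _
    rw [← hm1, Category.assoc, pullback.diagonal_fst, Category.comp_id]

/-- If the identity section is an open immersion, so is the diagonal of the source map. -/
theorem isOpenImmersion_diagonal_s [IsOpenImmersion G.e] :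
    IsOpenImmersion (pullback.diagonal G.s) :=
  MorphismProperty.of_isPullback (P := @IsOpenImmersion) (isPullback_diagonal_e G).flip ‹_›

/-- If the identity section is an open immersion, the source map is formally unramified. -/
theorem formallyUnramified_s [IsOpenImmersion G.e] : FormallyUnramified G.s := by
  haveI := isOpenImmersion_diagonal_s G
  infer_instance

/-- If the identity section is an open immersion and the source map is flat and locally of finite
presentation, the source map is étale. -/
theorem etale_s [IsOpenImmersion G.e] [Flat G.s] [LocallyOfFinitePresentation G.s] :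
    Etale G.s := by
  haveI := formallyUnramified_s G
  exact Etale.of_formallyUnramified_of_flat _

end Groth.Agent.H64.Boot4
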